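import Groth.Prelude.Def_HTop2
import Mathlib.RingTheory.Ideal.GoingUp
import Mathlib.RingTheory.Ideal.MinimalPrime.Noetherian

/-!
# Seminormal rings in finite extensions with the same points
-/

universe u

namespace Groth.Agent.ChowNorm

theorem isReduced_of_isSeminormalRing {C : Type u} [CommRing C] (hC : HTop.IsSeminormalRing C) :
    IsReduced C := by
  refine (isReduced_iff_pow_one_lt 2 one_lt_two).2 fun z hz => ?_
  obtain ⟨a, -, huniq⟩ := hC 0 0 (by simp)
  rw [huniq z ⟨hz.symm, by rw [pow_succ, hz, zero_mul]⟩, huniq 0 ⟨by simp, by simp⟩]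

variable {C C' : Type u} [CommRing C] [CommRing C'] [Algebra C C']

theorem mem_range_of_sq_cube [IsReduced C'] (hC : HTop.IsSeminormalRing C)
    (hinj : Function.Injective (algebraMap C C')) {z : C'} (h2 : z ^ 2 ∈ (algebraMap C C').range)
    (h3 : z ^ 3 ∈ (algebraMap C C').range) : z ∈ (algebraMap C C').range := by
  obtain ⟨x, hx⟩ := h2
  obtain ⟨y, hy⟩ := h3
  obtain ⟨a, ⟨ha2, ha3⟩, -⟩ := hC x y (hinj (by rw [map_pow, map_pow, hx, hy]; ring))
  refine ⟨a, ?_⟩
  have e2 : algebraMap C C' a ^ 2 = z ^ 2 := by rw [← map_pow, ← ha2, hx]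
  have e3 : algebraMap C C' a ^ 3 = z ^ 3 := by rw [← map_pow, ← ha3, hy]
  refine sub_eq_zero.1 (IsReduced.eq_zero _ ⟨3, ?_⟩)
  linear_combination 4 * e3 - 3 * (z + algebraMap C C' a) * e2

theorem mem_range_of_pow [IsReduced C'] (hC : HTop.IsSeminormalRing C)
    (hinj : Function.Injective (algebraMap C C')) (z : C') :
    ∀ N, (∀ n, N ≤ n → z ^ n ∈ (algebraMap C C').range) → z ∈ (algebraMap C C').range := by
  intro N
  induction N using Nat.strong_induction_on with
  | _ N ih =>
    intro h
    by_cases hN : N ≤ 1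
    · simpa using h 1 hN
    · refine ih (N - 1) (by omega) fun n hn => ?_
      refine mem_range_of_sq_cube hC hinj ?_ ?_ <;> rw [← pow_mul] <;> exact h _ (by omega)

/-- An element which takes values in the residue fields of a seminormal ring lies in it. -/
theorem mem_range_of_residues [IsNoetherianRing C] [IsReduced C'] [Module.Finite C C']
    (hC : HTop.IsSeminormalRing C)
    (hbij : Function.Bijective (PrimeSpectrum.comap (algebraMap C C'))) (y : C')
    (hy : ∀ q : PrimeSpectrum C', ∃ a s : C, algebraMap C C' s ∉ q.asIdeal ∧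
      algebraMap C C' s * y - algebraMap C C' a ∈ q.asIdeal) :
    y ∈ (algebraMap C C').range := by
  classical
  have := isReduced_of_isSeminormalRing hC
  have hinj : Function.Injective (algebraMap C C') := by
    rw [injective_iff_map_eq_zero]
    intro a ha
    refine IsReduced.eq_zero a (mem_nilradical.1 ?_)
    rw [nilradical_eq_sInf, Submodule.mem_sInf]
    intro P hP
    obtain ⟨Q, hQ⟩ := hbij.2 ⟨P, hP⟩
    show a ∈ (⟨P, hP⟩ : PrimeSpectrum C).asIdeal
    rw [← hQ]
    show algebraMap C C' a ∈ Q.asIdeal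
    rw [ha]
    exact Q.asIdeal.zero_mem
  let Z : Subalgebra C C' :=
    { carrier := {d | ∀ q : PrimeSpectrum C', ∃ a s : C, algebraMap C C' s ∉ q.asIdeal ∧
        algebraMap C C' s * d - algebraMap C C' a ∈ q.asIdeal}
      add_mem' := fun {d e} hd he q => by
        obtain ⟨a, s, hs, h⟩ := hd q
        obtain ⟨b, t, ht, h'⟩ := he q
        refine ⟨a * t + b * s, s * t, fun hm => ?_, ?_⟩
        · rw [map_mul] at hm
          exact (q.isPrime.mem_or_mem hm).elim hs ht
        · convert add_mem (q.asIdeal.mul_mem_left (algebraMap C C' t) h)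
            (q.asIdeal.mul_mem_left (algebraMap C C' s) h') using 1
          simp only [map_add, map_mul]
          ring
      mul_mem' := fun {d e} hd he q => by
        obtain ⟨a, s, hs, h⟩ := hd q
        obtain ⟨b, t, ht, h'⟩ := he q
        refine ⟨a * b, s * t, fun hm => ?_, ?_⟩
        · rw [map_mul] at hm
          exact (q.isPrime.mem_or_mem hm).elim hs ht
        · convert add_mem (q.asIdeal.mul_mem_left (algebraMap C C' t * e) h)
            (q.asIdeal.mul_mem_left (algebraMap C C' a) h') using 1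
          simp only [map_mul]
          ring
      algebraMap_mem' := fun c q => ⟨c, 1, by
        rw [map_one]; exact (Ideal.ne_top_iff_one _).1 q.isPrime.ne_top, by simp⟩ }
  have hyZ : y ∈ Z := hy
  let R := (algebraMap C C').range
  let K : Ideal Z :=
    { carrier := {w | ∀ d : Z, ((w * d : Z) : C') ∈ R}
      add_mem' := fun {v w} hv hw d => by
        rw [add_mul]
        exact add_mem (hv d) (hw d)
      zero_mem' := fun d => by simp
      smul_mem' := fun x w hw d => by
        rw [smul_eq_mul, mul_comm x w, mul_assoc]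
        exact hw _ }
  have hKR : ∀ w ∈ K, (w : C') ∈ R := fun w hw => by simpa using hw 1
  have hrad : K.IsRadical := by
    rintro w ⟨m, hm⟩ d
    refine mem_range_of_pow hC hinj _ m fun n hn => ?_
    obtain ⟨j, rfl⟩ := Nat.exists_eq_add_of_le hn
    have := hm (w ^ j * d ^ (m + j))
    convert this using 1
    push_cast
    ring
  let I : Ideal C := K.comap (algebraMap C Z)
  suffices hI : I = ⊤ by
    have h1 : (1 : C) ∈ I := hI ▸ Submodule.mem_top
    have h2 := h1 ⟨y, hyZ⟩
    simpa [R] using h2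
  by_contra hI
  obtain ⟨p, hp⟩ := Ideal.nonempty_minimalPrimes hI
  have hfin : (I.minimalPrimes \ {p}).Finite :=
    (Ideal.finite_minimalPrimes_of_isNoetherianRing C I).sdiff
  have hne : ∀ p' ∈ hfin.toFinset, ∃ t ∈ p', t ∉ p := by
    intro p' hp'
    rw [Set.Finite.mem_toFinset] at hp'
    by_contra h
    push_neg at h
    exact hp'.2 (le_antisymm h (hp.2 hp'.1.1 h))
  choose! t htp' htp using hne
  let T := ∏ p' ∈ hfin.toFinset, t p'
  have hT : T ∉ p := by
    intro h
    obtain ⟨p', hp', h'⟩ := (hp.1.1.prod_mem_iff).1 h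
    exact htp p' hp' h'
  obtain ⟨q, hq⟩ := hbij.2 ⟨p, hp.1.1⟩
  have hq' : q.asIdeal.comap (algebraMap C C') = p := congrArg PrimeSpectrum.asIdeal hq
  have hkill : ∀ d : Z, ∃ σ, σ ∉ p ∧ algebraMap C C' σ * (d : C') ∈ R := by
    intro d
    obtain ⟨a, s, hs, h⟩ := d.2 q
    refine ⟨T * s, ?_, ?_⟩
    · intro hm
      rcases hp.1.1.mem_or_mem hm with hm | hm
      · exact hT hm
      · exact hs (hq'.symm ▸ hm : s ∈ q.asIdeal.comap (algebraMap C C'))
    let z : Z := algebraMap C Z T * (algebraMap C Z s * d - algebraMap C Z a)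
    have hz : z ∈ K := by
      rw [← hrad.radical, Ideal.radical_eq_sInf, Submodule.mem_sInf]
      rintro P ⟨hKP, hP⟩
      have : Algebra.IsIntegral Z C' := Algebra.IsIntegral.tower_top C
      have hinjZ : (⊥ : Ideal C').comap (algebraMap Z C') ≤ P := fun w hw => by
        rw [show w = 0 from Subtype.ext (by simpa using hw)]
        exact P.zero_mem
      obtain ⟨Q, -, hQ, hQP⟩ := Ideal.exists_ideal_over_prime_of_isIntegral P ⊥ hinjZ
      have hIQ : I ≤ Q.comap (algebraMap C C') := fun x hx => by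
        have hxP := hKP hx
        rw [← hQP] at hxP
        exact hxP
      obtain ⟨p', hp', hp'Q⟩ := Ideal.exists_minimalPrimes_le (J := Q.comap (algebraMap C C')) hIQ
      show z ∈ P
      rw [← hQP]
      show ((z : Z) : C') ∈ Q
      show algebraMap C C' T * (algebraMap C C' s * (d : C') - algebraMap C C' a) ∈ Q
      by_cases hpp : p' = p
      · refine Q.mul_mem_left _ ?_
        have hle : q.asIdeal.comap (algebraMap C C') ≤ Q.comap (algebraMap C C') := by
          rw [hq', ← hpp]; exact hp'Q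
        obtain ⟨Q', hQ'le, hQ'p, hQ'c⟩ := Ideal.exists_ideal_over_prime_of_isIntegral
          (Q.comap (algebraMap C C')) q.asIdeal hle
        have : (⟨Q', hQ'p⟩ : PrimeSpectrum C') = ⟨Q, hQ⟩ := hbij.1 (PrimeSpectrum.ext hQ'c)
        have e : Q' = Q := congrArg PrimeSpectrum.asIdeal this
        exact e ▸ hQ'le h
      · refine Q.mul_mem_right _ (hp'Q ?_)
        have hmem : p' ∈ hfin.toFinset := (Set.Finite.mem_toFinset _).2 ⟨hp', hpp⟩
        exact Ideal.mem_of_dvd _ (Finset.dvd_prod_of_mem t hmem) (htp' p' hmem)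
    have hzR : algebraMap C C' T * (algebraMap C C' s * (d : C') - algebraMap C C' a) ∈ R := hKR z hz
    convert add_mem hzR (⟨T * a, rfl⟩ : algebraMap C C' (T * a) ∈ R) using 1
    rw [map_mul, map_mul]
    ring
  have : IsNoetherian C C' := inferInstance
  obtain ⟨G, hG⟩ := (IsNoetherian.noetherian (Subalgebra.toSubmodule Z) : (Subalgebra.toSubmodule Z).FG)
  have hGZ : ∀ g ∈ G, g ∈ Z := fun g hg => (hG.le (Submodule.subset_span hg) : g ∈ Subalgebra.toSubmodule Z)
  choose σ hσp hσR using hkill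
  let Sg := ∏ g ∈ G.attach, σ ⟨g.1, hGZ g.1 g.2⟩
  have hSg : Sg ∉ p := by
    intro h
    obtain ⟨g, -, h'⟩ := (hp.1.1.prod_mem_iff).1 h
    exact hσp _ h'
  refine hSg (hp.1.2 fun d => ?_)
  show algebraMap C C' Sg * (d : C') ∈ R
  suffices ∀ w ∈ Submodule.span C (G : Set C'), algebraMap C C' Sg * w ∈ R from this _ (hG.ge d.2)
  intro w hd
  induction hd using Submodule.span_induction with
  | mem g hg =>
    obtain ⟨e, he⟩ : σ ⟨g, hGZ g hg⟩ ∣ Sg :=
      Finset.dvd_prod_of_mem (fun g : G => σ ⟨g.1, hGZ g.1 g.2⟩) (Finset.mem_attach G ⟨g, hg⟩)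
    rw [he, map_mul, mul_comm (algebraMap C C' _) (algebraMap C C' e), mul_assoc]
    exact mul_mem ⟨e, rfl⟩ (hσR _)
  | zero => rw [mul_zero]; exact zero_mem _
  | add _ _ _ _ h1 h2 => rw [mul_add]; exact add_mem h1 h2
  | smul c w _ h =>
    rw [Algebra.smul_def, mul_left_comm]
    exact mul_mem ⟨c, rfl⟩ h

end Groth.Agent.ChowNorm
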