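import Groth.Prelude.Def_SymTen
import Mathlib.LinearAlgebra.PiTensorProduct.Basis
import Mathlib.FieldTheory.PurelyInseparable.Exponent
import Mathlib.GroupTheory.PGroup
import Mathlib.Algebra.Group.Action.Basic

/-!
# Multiplication of symmetric tensors of a purely inseparable extension
-/

universe u

namespace Groth.Agent.ChowNorm

open scoped TensorProduct

/-- Sum of an invariant function for a `p`-group action in characteristic `p`. -/
theorem sum_mem_of_pGroup {G W L : Type*} [Group G] [MulAction G W] [Fintype W] [CommRing L] {p : ℕ}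
    [hp : Fact p.Prime] [CharP L p] (hG : IsPGroup p G) (S : AddSubgroup L) (t : W → L)
    (ht : ∀ (g : G) w, t (g • w) = t w) (hfix : ∀ w, (∀ g : G, g • w = w) → t w ∈ S) :
    ∑ w, t w ∈ S := by
  classical
  rw [← Finset.sum_fiberwise Finset.univ (fun w => (Quotient.mk (MulAction.orbitRel G W) w)) t]
  refine S.sum_mem fun o _ => ?_
  induction o using Quotient.inductionOn with
  | h w =>
    have hset : ((Finset.univ.filter fun v => Quotient.mk (MulAction.orbitRel G W) v =
        Quotient.mk (MulAction.orbitRel G W) w) : Finset W) = (MulAction.orbit G w).toFinset := by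
      ext v
      simp [Quotient.eq, MulAction.orbitRel_apply]
    rw [hset]
    have hconst : ∀ v ∈ (MulAction.orbit G w).toFinset, t v = t w := fun v hv => by
      obtain ⟨g, rfl⟩ := Set.mem_toFinset.1 hv
      exact ht g w
    rw [Finset.sum_congr rfl hconst, Finset.sum_const]
    obtain ⟨n, hn⟩ := hG.card_orbit w
    rw [Nat.card_eq_card_toFinset] at hn
    rw [hn]
    cases n with
    | zero =>
      rw [pow_zero, one_smul]
      refine hfix w fun g => ?_
      have h1 : (MulAction.orbit G w).toFinset.card ≤ 1 := by rw [hn, pow_zero]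
      exact Finset.card_le_one.1 h1 _ (Set.mem_toFinset.2 (MulAction.mem_orbit w g)) _
        (Set.mem_toFinset.2 (MulAction.mem_orbit_self w))
    | succ n =>
      rw [← Nat.cast_smul_eq_nsmul L, Nat.cast_pow, CharP.cast_eq_zero, zero_pow n.succ_ne_zero,
        zero_smul]
      exact S.zero_mem

variable {K L : Type u} [Field K] [Field L] [Algebra K L]

theorem pow_mem_of_finrank [IsPurelyInseparable K L] (p : ℕ) [hp : Fact p.Prime] [ExpChar K p]
    [FiniteDimensional K L] {e : ℕ} (he : Module.finrank K L = p ^ e) (a : L) :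
    a ^ p ^ e ∈ (algebraMap K L).range := by
  have h1 : p ^ IsPurelyInseparable.elemExponent K a ∣ p ^ e := by
    rw [← IsPurelyInseparable.minpoly_natDegree_eq' K p a, ← he]
    exact minpoly.degree_dvd (IsIntegral.of_finite K a)
  obtain ⟨j, hj⟩ := Nat.exists_eq_add_of_le ((Nat.pow_dvd_pow_iff_le_right hp.out.one_lt).1 h1)
  rw [hj, pow_add, pow_mul]
  exact Subring.pow_mem _ (IsPurelyInseparable.elemExponent_def' K p a) _

/-- The product map sends symmetric tensors to the ground field. -/
theorem mul_mem_range [IsPurelyInseparable K L] [FiniteDimensional K L] (d : ℕ)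
    (hd : Module.finrank K L ∣ d) (y : ⨂[K] _ : Fin d, L) (hy : y ∈ SymTen.TS K L d) :
    PiTensorProduct.lift (MultilinearMap.mkPiAlgebra K (Fin d) L) y ∈ (algebraMap K L).range := by
  classical
  obtain ⟨q, hq⟩ := ExpChar.exists K
  obtain ⟨e, he⟩ := IsPurelyInseparable.finrank_eq_pow K L q
  by_cases h1 : Module.finrank K L = 1
  · exact (Subalgebra.bot_eq_top_of_finrank_eq_one h1).ge trivial
  cases hq with
  | zero => exact absurd (by rw [he, one_pow]) h1
  | prime hqp =>
  have : Fact q.Prime := ⟨hqp⟩
  have : ExpChar K q := .prime hqp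
  have : CharP L q := charP_of_injective_algebraMap (RingHom.injective (algebraMap K L)) q
  obtain ⟨m, hm⟩ := hd
  rw [he] at hm
  have : NeZero (q ^ e) := ⟨pow_ne_zero _ hqp.ne_zero⟩
  subst hm
  let b := Module.finBasis K L
  let E := Basis.piTensorProduct fun _ : Fin (q ^ e * m) => b
  let μ := PiTensorProduct.lift (MultilinearMap.mkPiAlgebra K (Fin (q ^ e * m)) L)
  have hsum : μ y = ∑ w, algebraMap K L (E.repr y w) * ∏ i, b (w i) := by
    conv_lhs => rw [← E.sum_repr y]
    rw [map_sum]
    refine Finset.sum_congr rfl fun w _ => ?_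
    rw [map_smul, Algebra.smul_def, Basis.piTensorProduct_apply, PiTensorProduct.lift.tprod,
      MultilinearMap.mkPiAlgebra_apply]
  -- translations
  let σ : Multiplicative (Fin (q ^ e)) →* Equiv.Perm (Fin (q ^ e * m)) :=
    { toFun := fun g => finProdFinEquiv.permCongr (Equiv.prodCongr (Equiv.addRight g.toAdd) (Equiv.refl _))
      map_one' := Equiv.ext fun i => by
        simp [Equiv.permCongr_apply, -finProdFinEquiv_symm_apply]
      map_mul' := fun g h => Equiv.ext fun i => by
        simp [Equiv.permCongr_apply, Prod.map, add_assoc, add_comm, add_left_comm,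
          -finProdFinEquiv_symm_apply] }
  let : MulAction (Multiplicative (Fin (q ^ e))) (Fin (q ^ e * m) → Fin (Module.finrank K L)) :=
    { smul := fun g w => w ∘ (σ g).symm
      one_smul := fun w => by
        show w ∘ (σ 1).symm = w
        rw [map_one]; rfl
      mul_smul := fun g h w => by
        show w ∘ (σ (g * h)).symm = (w ∘ (σ h).symm) ∘ (σ g).symm
        rw [map_mul]; rfl }
  have hG : IsPGroup q (Multiplicative (Fin (q ^ e))) :=
    IsPGroup.of_card (n := e) (by simp)
  rw [show PiTensorProduct.lift (MultilinearMap.mkPiAlgebra K (Fin (q ^ e * m)) L) y = μ y from rfl,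
    hsum]
  refine sum_mem_of_pGroup hG (algebraMap K L).range.toAddSubgroup _ (fun g w => ?_) (fun w hw => ?_)
  · show algebraMap K L (E.repr y (w ∘ (σ g).symm)) * ∏ i, b ((w ∘ (σ g).symm) i) = _
    have hc : E.repr y (w ∘ (σ g).symm) = E.repr y w := by
      let R := PiTensorProduct.reindex K (fun _ : Fin (q ^ e * m) => L) (σ g)
      have hR : ∀ z, E.repr (R z) (w ∘ (σ g).symm) = E.repr z w := by
        intro z
        refine LinearMap.congr_fun (f := (Finsupp.lapply (w ∘ (σ g).symm)).comp
          (E.repr.toLinearMap.comp R.toLinearMap)) (g := (Finsupp.lapply w).comp E.repr.toLinearMap) ?_ z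
        refine E.ext fun v => ?_
        have hRv : R (E v) = E (v ∘ (σ g).symm) := by
          simp only [R, E, Basis.piTensorProduct_apply, PiTensorProduct.reindex_tprod]
          rfl
        simp only [LinearMap.comp_apply, LinearEquiv.coe_coe, Finsupp.lapply_apply]
        rw [hRv, Module.Basis.repr_self, Module.Basis.repr_self, Finsupp.single_apply,
          Finsupp.single_apply]
        refine if_congr ⟨fun h => ?_, fun h => by rw [h]⟩ rfl rfl
        exact funext fun i => by simpa using congrFun h (σ g i)
      have := hR y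
      rwa [show R y = y from hy (σ g)] at this
    rw [hc]
    congr 1
    exact Equiv.prod_comp (σ g).symm fun i => b (w i)
  · refine (algebraMap K L).range.mul_mem ⟨_, rfl⟩ ?_
    rw [← finProdFinEquiv.prod_comp, Fintype.prod_prod_type, Finset.prod_comm]
    refine Subring.prod_mem _ fun j _ => ?_
    have hconst : ∀ i : Fin (q ^ e), w (finProdFinEquiv (i, j)) = w (finProdFinEquiv (0, j)) := fun i => by
      have h := congrFun (hw (Multiplicative.ofAdd i)) (finProdFinEquiv (i, j))
      change w ((σ (Multiplicative.ofAdd i)).symm (finProdFinEquiv (i, j))) = _ at h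
      rw [← h]
      congr 1
      rw [Equiv.symm_apply_eq]
      simp [σ, Equiv.permCongr_apply]
    simp only [hconst, Finset.prod_const, Finset.card_univ, Fintype.card_fin]
    exact pow_mem_of_finrank q he _

variable {A : Type u} [CommRing A] {B : Type u} [CommRing B] [Algebra A B] [Algebra A K]
  [Algebra A L] [IsScalarTower A K L]

theorem mul_symTensor_mem_range [IsPurelyInseparable K L] [FiniteDimensional K L] (d : ℕ)
    (hd : Module.finrank K L ∣ d) (ψ : B →ₐ[A] L) (x : ⨂[A] _ : Fin d, B) (hx : x ∈ SymTen.TS A B d) :
    ψ (PiTensorProduct.lift (MultilinearMap.mkPiAlgebra A (Fin d) B) x) ∈ (algebraMap K L).range := by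
  let M : (⨂[A] _ : Fin d, B) →ₗ[A] ⨂[K] _ : Fin d, L :=
    PiTensorProduct.lift (((PiTensorProduct.tprod K).restrictScalars A).compLinearMap fun _ => ψ.toLinearMap)
  have hM : M x ∈ SymTen.TS K L d := fun σ => by
    have h : ∀ z, M (PiTensorProduct.reindex A (fun _ : Fin d => B) σ z) =
        PiTensorProduct.reindex K (fun _ : Fin d => L) σ (M z) := fun z => by
      induction z using PiTensorProduct.induction_on with
      | smul_tprod r f =>
        simp only [map_smul, LinearEquiv.map_smul, LinearMap.map_smul_of_tower,
          PiTensorProduct.reindex_tprod, M, PiTensorProduct.lift.tprod,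
          MultilinearMap.compLinearMap_apply, MultilinearMap.coe_restrictScalars]
        rw [← LinearEquiv.coe_coe, LinearMap.map_smul_of_tower, LinearEquiv.coe_coe,
          PiTensorProduct.reindex_tprod]
      | add u v hu hv => simp [hu, hv]
    rw [← h, hx σ]
  have hmul : ∀ z, ψ (PiTensorProduct.lift (MultilinearMap.mkPiAlgebra A (Fin d) B) z) =
      PiTensorProduct.lift (MultilinearMap.mkPiAlgebra K (Fin d) L) (M z) := fun z => by
    induction z using PiTensorProduct.induction_on with
    | smul_tprod r f =>
      simp [M, map_prod, LinearMap.map_smul_of_tower]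
    | add u v hu hv => simp [hu, hv]
  rw [hmul]
  exact mul_mem_range d hd _ hM

end Groth.Agent.ChowNorm
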